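import Mathlib
import Cfsg.Prelude.Def_GeometricClasses
import Cfsg.Agent.Lib.Helper28.OPair
import Cfsg.Agent.Lib.Helper28.OsCW
import Cfsg.Agent.Lib.helper14.FldA

set_option autoImplicit false

/-!
# Project OU (leader: helper19) -> S5700 : `N(K) ∩ Ω` is maximal in `Ω = Ω^±_n(q)`, `n ≥ 14` even, all `q`,
`K = F[θ]` a quadratic field subalgebra, adjoint-closed, not self-adjoint, rescaling `Q` (`GU_{n/2}(q)` in `O^±_n(q)`).

Definitions only (no proofs).  Conventions of helper28's orthogonal library (`QF Q f`, `SymF f`, `Tv`, `IsSg`, `SgGroupQ`,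
`VFacts`, `SRO`).
-/

namespace Cfsg.Agent.Lib.Helper19.OU

open Matrix Cfsg.Agent.Lib.Helper28.HForm Cfsg.Agent.Lib.Helper28.OGen
  Cfsg.Agent.Lib.Helper28.OMax Cfsg.Agent.Lib.Helper28.OQ Cfsg.Agent.Lib.Helper28.OMax2
  Cfsg.Agent.Lib.Helper28.OIwa Cfsg.Agent.Lib.Helper28.OPair

variable {n : ℕ} {F : Type*} [Field F]

/-- The data of the problem: `Q` a quadratic form with polar form `f` (symmetric, non-degenerate: `QF`), `θ` a matrix with
`θ² = t θ - N` (`X² - t X + N` irreducible over `F`, so `K = F[θ] = {a + b θ}` is a field of degree 2), the adjoint of `θ` for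
`f` is `t - θ` (adjoint-closed, not self-adjoint), `θ` rescales `Q` by its norm `N`, and `f (v, θ v) = t Q v`. -/
structure KS (Q : (Fin n → F) → F) (f : (Fin n → F) → (Fin n → F) → F)
    (θ : Matrix (Fin n) (Fin n) F) (t N : F) : Prop where
  hq : QF Q f
  sq : θ * θ = t • θ - N • (1 : Matrix (Fin n) (Fin n) F)
  irr : ∀ x : F, x * x - t * x + N ≠ 0
  adj : ∀ u v : Fin n → F, f (θ *ᵥ u) v = t * f u v - f u (θ *ᵥ v)
  Qθ : ∀ v : Fin n → F, Q (θ *ᵥ v) = N * Q v
  fθ : ∀ v : Fin n → F, f v (θ *ᵥ v) = t * Q v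

/-- The `K`-line `K u = ⟨u, θ u⟩` through `u`. -/
def Kl (θ : Matrix (Fin n) (Fin n) F) (u : Fin n → F) : Submodule F (Fin n → F) :=
  Submodule.span F {u, θ *ᵥ u}

/-- `v` is orthogonal to the `K`-line of `u` ("hermitian-orthogonal": `h (u, v) = 0`). -/
def HO (f : (Fin n → F) → (Fin n → F) → F) (θ : Matrix (Fin n) (Fin n) F) (u v : Fin n → F) : Prop :=
  f u v = 0 ∧ f (θ *ᵥ u) v = 0

/-- The Siegel transformation `ρ_{u,y}` (`u` singular, `y ∈ u^⊥` ARBITRARY): for `Q y = 0` it is `Tv f u y 1`. -/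
def Rho (Q : (Fin n → F) → F) (f : (Fin n → F) → (Fin n → F) → F) (u y x : Fin n → F) : Fin n → F :=
  x + f u x • y - f y x • u - (Q y * f u x) • u

def IsRho (Q : (Fin n → F) → F) (f : (Fin n → F) → (Fin n → F) → F)
    (g : Matrix.GeneralLinearGroup (Fin n) F) (u y : Fin n → F) : Prop :=
  ∀ x, (g : Matrix (Fin n) (Fin n) F) *ᵥ x = Rho Q f u y x

/-- `RS Q f M u` : the `y ∈ u^⊥` all of whose Siegel transformations `ρ_{u, c y}` (`c ∈ F`) lie in `M`.
For `u` singular this is an `F`-subspace of `u^⊥` containing `u` (piece RSSUB). -/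
def RS (Q : (Fin n → F) → F) (f : (Fin n → F) → (Fin n → F) → F)
    (M : Subgroup (Matrix.GeneralLinearGroup (Fin n) F)) (u : Fin n → F) : Set (Fin n → F) :=
  {y | f u y = 0 ∧ ∀ (c : F) (g : Matrix.GeneralLinearGroup (Fin n) F), IsRho Q f g u (c • y) → g ∈ M}

/-- The ambient hypotheses: `G = Ω` (`SgGroupQ`, `VFacts` from helper28's library), `M ≤ G`, and `M` contains the
centraliser of `θ` in `G` (in S5700: `M ≥ N(K) ∩ Ω ≥ C_Ω(θ)`). -/
structure Amb (Q : (Fin n → F) → F) (f : (Fin n → F) → (Fin n → F) → F)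
    (θ : Matrix (Fin n) (Fin n) F)
    (G M : Subgroup (Matrix.GeneralLinearGroup (Fin n) F)) : Prop where
  hG : SgGroupQ Q f G
  vf : VFacts Q f
  hM : M ≤ G
  hH : ∀ g ∈ G, (g : Matrix (Fin n) (Fin n) F) * θ = θ * (g : Matrix (Fin n) (Fin n) F) → g ∈ M

/-- every singular `y` hermitian-orthogonal to `x` lies in `RS M x` -/
def Full1 (Q : (Fin n → F) → F) (f : (Fin n → F) → (Fin n → F) → F)
    (θ : Matrix (Fin n) (Fin n) F)
    (M : Subgroup (Matrix.GeneralLinearGroup (Fin n) F)) (x : Fin n → F) : Prop :=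
  ∀ y, Q y = 0 → HO f θ x y → y ∈ RS Q f M x

/-- every singular `y` orthogonal to `x` lies in `RS M x` -/
def Full (Q : (Fin n → F) → F) (f : (Fin n → F) → (Fin n → F) → F)
    (M : Subgroup (Matrix.GeneralLinearGroup (Fin n) F)) (x : Fin n → F) : Prop :=
  ∀ y, Q y = 0 → f x y = 0 → y ∈ RS Q f M x

end Cfsg.Agent.Lib.Helper19.OU
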