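import Mathlib
import Cfsg.Prelude.Def_GeometricClasses
import Cfsg.Statements.S5700
import Cfsg.Agent.Lib.Helper19.OU.Defs
import Cfsg.Agent.Lib.helper8.OUSETUP
import Cfsg.Agent.Lib.Helper21.OUSTRICT
import Cfsg.Agent.Lib.Helper1.OUNORM
import Cfsg.Agent.Lib.helper8.OUSTART
import Cfsg.Agent.Lib.Helper11.OUSPRA
import Cfsg.Agent.Lib.helper4.OUSPRB
import Cfsg.Agent.Lib.helper4.OUMIX
import Cfsg.Agent.Lib.Helper1.OUPROP1
import Cfsg.Agent.Lib.Helper1.OURSSUB
import Cfsg.Agent.Lib.Helper22.OUPROP2core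

set_option autoImplicit false

/-!
# Project OU (leader: helper19) -> S5700 : the assembly.

`N(K) ∩ Ω` is maximal in `Ω = Ω_n^±(q)` (`n ≥ 13` even), `K = F[θ]` a quadratic field subalgebra, adjoint-closed, not self-adjoint,
whose elements scale `Q` (`GU_{n/2}(q)`-type subgroups).  Pieces: see `PLAN.md` and the table `pieces` (project 'OU').
-/

namespace Cfsg.Agent.Lib.Helper19.OU

open Matrix Cfsg.Agent.Lib.Helper28 Cfsg.Agent.Lib.Helper28.HForm Cfsg.Agent.Lib.Helper28.OGen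
  Cfsg.Agent.Lib.Helper28.OMax Cfsg.Agent.Lib.Helper28.OQ Cfsg.Agent.Lib.Helper28.OMax2
  Cfsg.Agent.Lib.Helper28.OIwa Cfsg.Agent.Lib.Helper28.OPair Cfsg.Agent.Lib.Helper28.OEven
  Cfsg.Agent.Lib.Helper28.OGenQ Cfsg.Agent.Lib.Helper28.OBundle

/-- PROP2 (statement of `all_sro`), assembled here from `ouprop2_core` and the landed pieces. -/
theorem oumain_all_sro {n : ℕ} {F : Type*} [Field F] [Fintype F] {Q : (Fin n → F) → F}
    {f : (Fin n → F) → (Fin n → F) → F} {θ : Matrix (Fin n) (Fin n) F} {t N : F}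
    {G M : Subgroup (Matrix.GeneralLinearGroup (Fin n) F)}
    (hn : 11 ≤ n) (ks : KS Q f θ t N) (am : Amb Q f θ G M)
    (g : Matrix.GeneralLinearGroup (Fin n) F) (hg : g ∈ M)
    (hgK : ¬ ∃ a b : F, (g : Matrix (Fin n) (Fin n) F) * θ *
      ((g⁻¹ : Matrix.GeneralLinearGroup (Fin n) F) : Matrix (Fin n) (Fin n) F) =
        a • (1 : Matrix (Fin n) (Fin n) F) + b • θ) :
    ∀ u v : Fin n → F, Q u = 0 → Q v = 0 → f u v = 0 → SRO f M u v :=
  ouprop2_core ks.hq.sym (start hn ks am g hg hgK)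
    (fun hu hu0 hv huv hvu hvR => spread_A hn ks am hu hu0 hv huv hvu hvR)
    (fun hu hu0 hv huv hβ hvR => spread_B (by omega) ks am hu hu0 hv huv hβ hvR)
    (fun hu hu0 h => all_full1 hn ks am hu hu0 h)
    (fun hall _ hu hu0 => mix hn ks am hall hu hu0)
    (fun hy huy => rs_iff_sro ks.hq hy huy)

theorem s5700 : type_of% @Cfsg.CfsgFrozen.S5700 := by
  intro F _ _ n hn heven Q hQ K hK hac hnsa hsc
  have hn14 : 14 ≤ n := by
    obtain ⟨k, hk⟩ := heven
    omega
  obtain ⟨θ, t, N, ks, hspan⟩ := setup (by omega) Q hQ K hK hac hnsa hsc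
  have vf : VFacts Q (QuadraticMap.polar Q) :=
    vfacts_quad (by omega) (bundle Q hQ) (bundle_nondeg Q hQ)
  have hG : SgGroupQ Q (QuadraticMap.polar Q) (Cfsg.Geo.omegaGL Q) :=
    sgGroupQ_quad (by omega) (bundle Q hQ) (bundle_nondeg Q hQ)
  constructor
  · refine lt_of_le_of_ne inf_le_right ?_
    intro heq
    obtain ⟨g, hgG, hg⟩ := strict (by omega) ks vf hG
    rw [← heq] at hgG
    exact hg ((norm_iff ks K hspan g).mp (Subgroup.mem_inf.mp hgG).1)
  · intro M hHM hMG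
    by_cases hMH : M ≤ Cfsg.Geo.subalgebraNormalizer K ⊓ Cfsg.Geo.omegaGL Q
    · left
      exact le_antisymm hMH hHM
    · right
      obtain ⟨g, hgM, hgH⟩ := SetLike.not_le_iff_exists.mp hMH
      have hgK : ¬ ∃ a b : F, (g : Matrix (Fin n) (Fin n) F) * θ *
          ((g⁻¹ : Matrix.GeneralLinearGroup (Fin n) F) : Matrix (Fin n) (Fin n) F) =
            a • (1 : Matrix (Fin n) (Fin n) F) + b • θ := by
        intro h
        exact hgH (Subgroup.mem_inf.mpr ⟨(norm_iff ks K hspan g).mpr h, hMG hgM⟩)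
      have am : Amb Q (QuadraticMap.polar Q) θ (Cfsg.Geo.omegaGL Q) M := by
        refine ⟨hG, vf, hMG, ?_⟩
        intro k hk hc
        apply hHM
        refine Subgroup.mem_inf.mpr ⟨(norm_iff ks K hspan k).mpr ⟨0, 1, ?_⟩, hk⟩
        rw [hc, Matrix.mul_assoc, ← Units.val_mul, mul_inv_cancel, Units.val_one, Matrix.mul_one,
          zero_smul, zero_add, one_smul]
      have hall := oumain_all_sro (by omega) ks am g hgM hgK
      apply le_antisymm hMG
      apply hG.gen M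
      intro τ u v c hu hv huv hτ
      exact hall u v hu hv huv c τ hτ

end Cfsg.Agent.Lib.Helper19.OU
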